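import Groth.Agent.Lib.LocProp.SmoothRegularScheme
import Groth.Agent.Lib.Serre.Regular
import Groth.Agent.Lib.RegLoc.Basic
import Groth.Agent.Lib.BlowUp.StalkIdeal
import Groth.Agent.Lib.BlowUp.Regular
import Groth.Agent.Lib.BlowUp.Universal
import Groth.Agent.Lib.BlowUpProper.Basic
import Groth.Agent.Lib.WeilExt.Extend

/-!
# Regularity off the center from a smooth exceptional divisor
-/

set_option backward.isDefEq.respectTransparency false

universe u

open CategoryTheory CategoryTheory.Limits AlgebraicGeometry TopologicalSpace IsLocalRing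

namespace GrothLib.BlowUp17

theorem isRegularLocalRing_of_specializes {X : Scheme.{u}} {x y : X} (h : x ⤳ y)
    [IsRegularLocalRing (X.presheaf.stalk y)] : IsRegularLocalRing (X.presheaf.stalk x) := by
  obtain ⟨_, ⟨V, hV, rfl⟩, hyV, -⟩ :=
    X.isBasis_affineOpens.exists_subset_of_mem_open (Set.mem_univ y) isOpen_univ
  have hxV : x ∈ V := h.mem_open V.2 hyV
  let p := (hV.primeIdealOf ⟨x, hxV⟩).asIdeal
  let q := (hV.primeIdealOf ⟨y, hyV⟩).asIdeal
  haveI hq : IsRegularLocalRing (Localization.AtPrime q) :=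
    (GrothLib.LocProp.isRegularLocalRing_stalk_iff_primeIdealOf hV y hyV).1 inferInstance
  have hpq : p ≤ q := by
    have h' : hV.primeIdealOf ⟨x, hxV⟩ ⤳ hV.primeIdealOf ⟨y, hyV⟩ := by
      refine (hV.fromSpec.isOpenEmbedding.toIsInducing.specializes_iff).1 ?_
      rwa [hV.fromSpec_primeIdealOf, hV.fromSpec_primeIdealOf]
    exact (PrimeSpectrum.le_iff_specializes _ _).2 h'
  refine (GrothLib.LocProp.isRegularLocalRing_stalk_iff_primeIdealOf hV x hxV).2 ?_
  let p' : Ideal (Localization.AtPrime q) := p.map (algebraMap Γ(X, V) _)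
  have hd : Disjoint (q.primeCompl : Set Γ(X, V)) (p : Set Γ(X, V)) :=
    Set.disjoint_left.2 fun a ha hap => ha (hpq hap)
  haveI : p'.IsPrime := IsLocalization.isPrime_of_isPrime_disjoint q.primeCompl _ p inferInstance hd
  have hcomap : p'.comap (algebraMap Γ(X, V) (Localization.AtPrime q)) = p :=
    IsLocalization.comap_map_of_isPrime_disjoint q.primeCompl _ inferInstance hd
  haveI : IsRegularLocalRing (Localization.AtPrime p') :=
    GrothLib.Serre.isRegularLocalRing_localization (Localization.AtPrime q) p' _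
  have : IsLocalization.AtPrime (Localization.AtPrime p')
      (p'.comap (algebraMap Γ(X, V) (Localization.AtPrime q))) :=
    IsLocalization.isLocalization_isLocalization_atPrime_isLocalization q.primeCompl _ p'
  simp only [hcomap] at this
  exact IsRegularLocalRing.of_ringEquiv (R := Localization.AtPrime p')
    (IsLocalization.algEquiv p.primeCompl (Localization.AtPrime p') (Localization.AtPrime p)).toRingEquiv

theorem regular_generization {X X' : Scheme.{u}} [IsLocallyNoetherian X]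
    (𝓘 : X.IdealSheafData) (b : X' ⟶ X) (hb : _root_.BlowUp.IsBlowUp b 𝓘)
    (g : (_root_.BlowUp.exceptional b 𝓘).subscheme ⟶ 𝓘.subscheme)
    (hg : g ≫ 𝓘.subschemeι = (_root_.BlowUp.exceptional b 𝓘).subschemeι ≫ b)
    [Smooth g] (y : ↥𝓘.subscheme) [IsRegularLocalRing (𝓘.subscheme.presheaf.stalk y)] (x₁ : ↥X)
    (hgen : x₁ ⤳ 𝓘.subschemeι y) (hx₁ : x₁ ∉ 𝓘.support) :
    IsRegularLocalRing (X.presheaf.stalk x₁) := by
  haveI := GrothLib.BlowUpProper.isProper_of_isBlowUp hb
  haveI : IsLocallyNoetherian X' := LocallyOfFiniteType.isLocallyNoetherian b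
  haveI : IsLocallyNoetherian 𝓘.subscheme := LocallyOfFiniteType.isLocallyNoetherian 𝓘.subschemeι
  -- the point off the center lifts
  obtain ⟨U, hU⟩ : ∃ U : X.Opens, U = 𝓘.support.compl := ⟨_, rfl⟩
  haveI : IsIso (b ∣_ U) := hU ▸ GrothLib.BlowUp.isIso_off_center hb
  have hxU : x₁ ∈ U := hU ▸ hx₁
  obtain ⟨x₁', hx₁'⟩ := (b ∣_ U).surjective ⟨x₁, hxU⟩
  have hbx : b ((b ⁻¹ᵁ U).ι x₁') = x₁ := by
    have := congrArg U.ι hx₁'
    rw [← Scheme.Hom.comp_apply, morphismRestrict_ι, Scheme.Hom.comp_apply] at this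
    exact this
  -- a specialization over the point of the center
  obtain ⟨x', hsp, hx'⟩ : ∃ x', (b ⁻¹ᵁ U).ι x₁' ⤳ x' ∧ b x' = 𝓘.subschemeι y := by
    have h := b.isClosedMap.closure_image_subset {(b ⁻¹ᵁ U).ι x₁'}
    rw [Set.image_singleton, hbx] at h
    obtain ⟨x', hx', e⟩ := h hgen.mem_closure
    exact ⟨x', specializes_iff_mem_closure.2 hx', e⟩
  suffices hreg : IsRegularLocalRing (X'.presheaf.stalk x') by
    haveI := isRegularLocalRing_of_specializes hsp
    haveI : IsRegularLocalRing ((b ⁻¹ᵁ U).toScheme.presheaf.stalk x₁') :=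
      IsRegularLocalRing.of_ringEquiv (R := X'.presheaf.stalk ((b ⁻¹ᵁ U).ι x₁'))
        ((b ⁻¹ᵁ U).stalkIso x₁').commRingCatIsoToRingEquiv.symm
    haveI : IsRegularLocalRing (U.toScheme.presheaf.stalk ((b ∣_ U) x₁')) :=
      IsRegularLocalRing.of_ringEquiv (R := (b ⁻¹ᵁ U).toScheme.presheaf.stalk x₁')
        (asIso ((b ∣_ U).stalkMap x₁')).commRingCatIsoToRingEquiv.symm
    have e := (U.stalkIso ⟨x₁, hxU⟩).commRingCatIsoToRingEquiv
    haveI : IsRegularLocalRing (U.toScheme.presheaf.stalk ⟨x₁, hxU⟩) := hx₁' ▸ ‹_›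
    exact IsRegularLocalRing.of_ringEquiv (R := U.toScheme.presheaf.stalk ⟨x₁, hxU⟩) e
  -- the point lies on the exceptional divisor
  obtain ⟨d, hd⟩ : x' ∈ Set.range (_root_.BlowUp.exceptional b 𝓘).subschemeι := by
    rw [Scheme.IdealSheafData.range_subschemeι, Scheme.IdealSheafData.support_comap]
    change b x' ∈ 𝓘.support
    rw [hx', ← SetLike.mem_coe, ← Scheme.IdealSheafData.range_subschemeι]
    exact ⟨y, rfl⟩
  subst hd
  have hgd : g d = y := by
    apply (𝓘.subschemeι).isEmbedding.injective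
    rw [← Scheme.Hom.comp_apply, hg, Scheme.Hom.comp_apply, hx']
  haveI : IsRegularLocalRing ((_root_.BlowUp.exceptional b 𝓘).subscheme.presheaf.stalk d) := by
    refine (GrothLib.LocProp.isRegularLocalRing_stalk_iff_of_mem_smoothLocus g d
      (by rw [Scheme.Hom.smoothLocus_eq_top g]; trivial)).2 ?_
    rw [hgd]; infer_instance
  obtain ⟨V, hV, s, hs, hI⟩ := hb.1 ((_root_.BlowUp.exceptional b 𝓘).subschemeι d)
  let sg := X'.presheaf.germ V.1 _ hV s
  have hker : RingHom.ker ((_root_.BlowUp.exceptional b 𝓘).subschemeι.stalkMap d).hom = Ideal.span {sg} := by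
    rw [GrothLib.BlowUp.ker_stalkMap_subschemeι _ d V hV, hI, Ideal.map_span, Set.image_singleton]
  have hsurj := SurjectiveOnStalks.stalkMap_surjective (_root_.BlowUp.exceptional b 𝓘).subschemeι d
  haveI : IsRegularLocalRing (X'.presheaf.stalk _ ⧸ Ideal.span {sg}) :=
    IsRegularLocalRing.of_ringEquiv (R := (_root_.BlowUp.exceptional b 𝓘).subscheme.presheaf.stalk d)
      ((Ideal.quotEquivOfEq hker.symm).trans (RingHom.quotientKerEquivOfSurjective hsurj)).symm
  refine GrothLib.RegLoc.isRegularLocalRing_of_quotient (x := sg) ?_ (GrothLib.BlowUp.germ_mem_nonZeroDivisors hs hV)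
  rw [← Ideal.span_singleton_le_iff_mem, ← hker]
  exact IsLocalRing.le_maximalIdeal (RingHom.ker_ne_top _)

end GrothLib.BlowUp17
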