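import Groth.Agent.Lib.LinearType
import Groth.Agent.Lib.BlowUp.Algebra
import Mathlib.RingTheory.RingHom.Smooth

/-!
# The exceptional divisor in an affine chart of the blow-up in a regular sequence
-/

universe u

open MvPolynomial RingTheory.Sequence

namespace GrothLib.BlowUp17

open GrothLib.BlowUp

variable {A : Type u} [CommRing A] {n : ℕ} (a : Fin n → A) (i : Fin n)

/-- The ideal of the center. -/
abbrev ctr : Ideal A := Ideal.span (Set.range a)

/-- The chart. -/
abbrev Chart : Type u := ↥(_root_.BlowUp.affineAlgebra A (ctr a) (a i))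

/-- The variables of the chart. -/
abbrev Var : Type := {j : Fin n // j ≠ i}

/-- The fraction `a j / a i`. -/
noncomputable def fr (j : Fin n) : Chart a i := frac (a i) (⟨a j, Ideal.subset_span ⟨j, rfl⟩⟩ : ctr a)

theorem mul_fr (j : Fin n) :
    algebraMap A (Chart a i) (a i) * fr a i j = algebraMap A _ (a j) :=
  algebraMap_mul_frac (I := ctr a) (a i) (Subtype.mk (a j) (Ideal.subset_span ⟨j, rfl⟩))

theorem fr_self : fr a i i = 1 :=
  (mul_cancel_left_mem_nonZeroDivisors (algebraMap_mem_nonZeroDivisors (I := ctr a) (a i))).1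
    ((mul_fr a i i).trans (mul_one _).symm)

/-- The presentation of the chart. -/
noncomputable def pres : MvPolynomial (Var i) A →ₐ[A] Chart a i := aeval fun j => fr a i j.1

theorem pres_surjective : Function.Surjective (pres a i) := by
  classical
  have hfrac : ∀ x : ctr a, frac (a i) x ∈ (pres a i).range := by
    intro x
    obtain ⟨c, hc⟩ := (Ideal.mem_span_range_iff_exists_fun).1 x.2
    have e : frac (a i) x = ∑ j, algebraMap A (Chart a i) (c j) * fr a i j := by
      refine (mul_cancel_left_mem_nonZeroDivisors (algebraMap_mem_nonZeroDivisors (I := ctr a) (a i))).1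
        ((algebraMap_mul_frac (a i) x).trans ?_)
      rw [Finset.mul_sum, ← hc, map_sum]
      refine Finset.sum_congr rfl fun j _ => ?_
      rw [map_mul, mul_left_comm, mul_fr]
    rw [e]
    refine sum_mem fun j _ => mul_mem (Subalgebra.algebraMap_mem _ _) ?_
    by_cases hj : j = i
    · rw [hj, fr_self]; exact one_mem _
    · exact ⟨X ⟨j, hj⟩, aeval_X _ _⟩
  rw [← AlgHom.range_eq_top, eq_top_iff]
  rintro ⟨z, hz⟩ -
  induction hz using Algebra.adjoin_induction with
  | mem z hz =>
    obtain ⟨x, hx, rfl⟩ := hz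
    exact hfrac ⟨x, hx⟩
  | algebraMap r => exact Subalgebra.algebraMap_mem _ r
  | add x y hx hy e1 e2 => exact add_mem (show _ from e1) e2
  | mul x y hx hy e1 e2 => exact mul_mem (show _ from e1) e2

/-- Homogenisation with respect to the variable `i`. -/
theorem exists_homogenize (P : MvPolynomial (Var i) A) :
    ∃ (d : ℕ) (G : MvPolynomial (Fin n) A), G.IsHomogeneous d ∧
      aeval (fun j => if h : j = i then (1 : MvPolynomial (Var i) A) else X ⟨j, h⟩) G = P ∧
      algebraMap A (Chart a i) (aeval a G) = algebraMap A (Chart a i) (a i) ^ d * pres a i P := by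
  classical
  refine ⟨P.totalDegree, ∑ s ∈ P.support,
    X i ^ (P.totalDegree - s.degree) * rename Subtype.val (monomial s (P.coeff s)), ?_, ?_, ?_⟩
  · refine IsHomogeneous.sum _ _ _ fun s hs => ?_
    have hle : s.degree ≤ P.totalDegree := by
      simpa [Finsupp.degree_apply, Finsupp.sum] using le_totalDegree hs
    have h1 : (rename Subtype.val (monomial s (P.coeff s)) :
        MvPolynomial (Fin n) A).IsHomogeneous s.degree :=
      (isHomogeneous_monomial _ rfl).rename_isHomogeneous
    have h2 := ((isHomogeneous_X A i).pow (P.totalDegree - s.degree)).mul h1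
    rwa [one_mul, Nat.sub_add_cancel hle] at h2
  · conv_rhs => rw [P.as_sum]
    rw [map_sum]
    refine Finset.sum_congr rfl fun s _ => ?_
    rw [map_mul, map_pow, aeval_X, dif_pos rfl, one_pow, one_mul, aeval_rename]
    have : ((fun j => if h : j = i then (1 : MvPolynomial (Var i) A) else X ⟨j, h⟩) ∘ Subtype.val) = X := by
      funext j
      exact dif_neg j.2
    rw [this]
    exact aeval_X_left_apply _
  · generalize hd : P.totalDegree = d
    conv_rhs => rw [P.as_sum]
    rw [map_sum, map_sum, map_sum, Finset.mul_sum]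
    refine Finset.sum_congr rfl fun s hs => ?_
    have hle : s.degree ≤ d := by
      rw [← hd]; simpa [Finsupp.degree_apply, Finsupp.sum] using le_totalDegree hs
    rw [map_mul, map_pow, aeval_X, aeval_rename, pres, aeval_monomial, aeval_monomial,
      Algebra.algebraMap_self, RingHom.id_apply, map_mul, map_mul, map_pow,
      Finsupp.prod_fintype _ _ (fun _ => pow_zero _), Finsupp.prod_fintype _ _ (fun _ => pow_zero _),
      map_prod]
    conv_rhs => rw [← Nat.sub_add_cancel hle, pow_add, Finsupp.degree_eq_sum s, ← Finset.prod_pow_eq_pow_sum]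
    have hj : ∀ j : Var i, algebraMap A (Chart a i) (a j.1) ^ s j =
        algebraMap A (Chart a i) (a i) ^ s j * fr a i j.1 ^ s j := fun j => by
      rw [← mul_pow, mul_fr a i j.1]
    simp only [Function.comp_apply, map_pow, hj, Finset.prod_mul_distrib]
    rw [Finsupp.degree_eq_sum s]
    ring

theorem mem_of_pres_mem (ha : IsWeaklyRegular A (List.ofFn a)) (P : MvPolynomial (Var i) A)
    (h : pres a i P ∈ Ideal.span {algebraMap A (Chart a i) (a i)}) :
    P ∈ (ctr a).map (C : A →+* MvPolynomial (Var i) A) := by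
  classical
  obtain ⟨w, hw⟩ := Ideal.mem_span_singleton'.1 h
  obtain ⟨H, rfl⟩ := pres_surjective a i w
  have hai : C (a i) ∈ (ctr a).map (C : A →+* MvPolynomial (Var i) A) :=
    Ideal.mem_map_of_mem _ (Ideal.subset_span ⟨i, rfl⟩)
  suffices hP : P - C (a i) * H ∈ (ctr a).map (C : A →+* MvPolynomial (Var i) A) by
    simpa using add_mem hP (Ideal.mul_mem_right H _ hai)
  have hker : pres a i (P - C (a i) * H) = 0 := by
    rw [map_sub, map_mul, ← MvPolynomial.algebraMap_eq, AlgHom.commutes, ← hw, mul_comm, sub_self]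
  obtain ⟨d, G, hG, hGP, hGa⟩ := exists_homogenize a i (P - C (a i) * H)
  rw [hker, mul_zero] at hGa
  have h0 : algebraMap A (Localization.Away (a i)) (aeval a G) = 0 := congrArg Subtype.val hGa
  obtain ⟨⟨_, N, rfl⟩, hN⟩ :=
    (IsLocalization.map_eq_zero_iff (Submonoid.powers (a i)) (Localization.Away (a i)) _).1 h0
  have hrel : X i ^ N * G ∈ GrothLib.LinearType.rel a := by
    refine GrothLib.LinearType.mem_rel a ha (N + d) _ ?_ ?_
    · have := ((isHomogeneous_X A i).pow N).mul hG
      rwa [one_mul] at this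
    · rw [map_mul, map_pow, aeval_X]; exact hN
  set ψ := aeval (R := A) (fun j => if h : j = i then (1 : MvPolynomial (Var i) A) else X ⟨j, h⟩)
  have hle : GrothLib.LinearType.rel a ≤
      ((ctr a).map (C : A →+* MvPolynomial (Var i) A)).comap ψ := by
    refine Ideal.span_le.2 ?_
    rintro _ ⟨j, k, rfl⟩
    have hC : ∀ l, ψ (C (a l)) ∈ (ctr a).map (C : A →+* MvPolynomial (Var i) A) := fun l => by
      rw [aeval_C]
      exact Ideal.mem_map_of_mem _ (Ideal.subset_span ⟨l, rfl⟩)
    rw [SetLike.mem_coe, Ideal.mem_comap]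
    rw [map_sub, map_mul, map_mul]
    exact sub_mem (Ideal.mul_mem_right _ _ (hC j)) (Ideal.mul_mem_right _ _ (hC k))
  have hmem : ψ (X i ^ N * G) ∈ (ctr a).map (C : A →+* MvPolynomial (Var i) A) := hle hrel
  rwa [map_mul, map_pow, aeval_X, dif_pos rfl, one_pow, one_mul, hGP] at hmem

/-- Over the center, the chart of the exceptional divisor is a polynomial ring: it is smooth. -/
theorem smooth_of_comp (ha : IsWeaklyRegular A (List.ofFn a)) {A' : Type u} [CommRing A']
    (φ : A →+* A') (hφ : Function.Surjective φ) (hker : RingHom.ker φ = ctr a)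
    (θ : A' →+* Chart a i ⧸ Ideal.span {algebraMap A (Chart a i) (a i)})
    (hθ : θ.comp φ = (Ideal.Quotient.mk _).comp (algebraMap A (Chart a i))) :
    @RingHom.Smooth A' _ _ (Ideal.Quotient.commRing _) θ := by
  let J := Ideal.span {algebraMap A (Chart a i) (a i)}
  let Θ : MvPolynomial (Var i) A' →+* Chart a i ⧸ J :=
    eval₂Hom θ fun j => Ideal.Quotient.mk J (fr a i j.1)
  have hΘ : Θ.comp (map φ) = (Ideal.Quotient.mk J).comp (pres a i).toRingHom := by
    refine ringHom_ext (fun r => ?_) (fun j => ?_)
    · simp only [Θ, RingHom.comp_apply, map_C, eval₂Hom_C, AlgHom.toRingHom_eq_coe, RingHom.coe_coe,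
        pres, aeval_C]
      exact RingHom.congr_fun hθ r
    · simp [Θ, pres]
  have hbij : Function.Bijective Θ := by
    constructor
    · rw [injective_iff_map_eq_zero]
      intro z hz
      obtain ⟨P, rfl⟩ := map_surjective φ hφ z
      have h1 := RingHom.congr_fun hΘ P
      rw [RingHom.comp_apply, hz] at h1
      have h2 : P ∈ (ctr a).map (C : A →+* MvPolynomial (Var i) A) :=
        mem_of_pres_mem a i ha P (Ideal.Quotient.eq_zero_iff_mem.1 h1.symm)
      rw [← hker, mem_map_C_iff] at h2
      ext m
      rw [coeff_map, coeff_zero]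
      exact h2 m
    · intro y
      obtain ⟨w, rfl⟩ := Ideal.Quotient.mk_surjective y
      obtain ⟨P, rfl⟩ := pres_surjective a i w
      exact ⟨map φ P, RingHom.congr_fun hΘ P⟩
  have e : θ = Θ.comp (algebraMap A' (MvPolynomial (Var i) A')) := by
    ext r
    simp [Θ]
  rw [e]
  exact RingHom.Smooth.comp ((RingHom.smooth_algebraMap).2 ⟨inferInstance, inferInstance⟩) (RingHom.Smooth.of_bijective hbij)

end GrothLib.BlowUp17
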